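import Cfsg.Agent.H285.Ccp.HNFive
import Cfsg.Agent.H789.MS.HN25A
import Cfsg.Agent.H789.MS.HN25B
import Cfsg.Agent.H789.MS.HN25C
import Cfsg.Agent.H789.MS.HN25D

/-!
# The `5`-elements of the Harada-Norton group are real (ORE, row HN)

`n = G k² G⁻¹` inverts `W` and, after multiplication with `(A⁴ D³)^u`, the element `C₁^u F` of order 25
(`u = 1, .., 4`); these relations are checked in the 133-dimensional representation.
-/

set_option autoImplicit false
set_option maxRecDepth 100000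

namespace Cfsg.Agent.H253.Ore.HN25

open Subgroup Cfsg Cfsg.Agent.H839.Rad.Ext Cfsg.Agent.H285.ExtReal Cfsg.Agent.H981.InvHN Cfsg.Agent.H497.Stein
open Cfsg.Agent.H839.Rad.HN (W A B C₁ D F τ k G Gi ext e_fa1 e_fb1 e_fa2 e_fb2 FW prog R evF runG_getD runG_step)
open Cfsg.Agent.H285.HN5
open Cfsg.Agent.Lib.PackMat Cfsg.Agent.Lib.PackMatGroup Cfsg.Agent.Lib.PackMatMul Cfsg.Agent.HN.RepData
open Cfsg.Agent.HN.Rep (L LG gens rho)
open Cfsg.Agent.HN

/-- the further steps -/
def extra : List (ℕ × List ℕ) := [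
  (70, [88, 88, 69]),
  (69, [69]),
  (0, [0]),
  (0, [110, 110, 110]),
  (0, [3]),
  (1, [0]),
  (2, [0]),
  (3, [0]),
  (92, [74]),
  (93, [0]),
  (94, [0]),
  (95, [0]),
  (3, [7, 3]),
  (3, [7, 3]),
  (3, [7, 3]),
  (3, [7, 3]),
  (117, [15, 117])]

/-- the equalities -/
def es' : List (ℕ × ℕ) := [(0, 16), (1, 9), (2, 10), (3, 11), (4, 12)]

/-- entry of the complete list of results in the matrix group -/
noncomputable def fl (i : ℕ) : U C := (runG (prog ++ extra) LG).getD i 1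

theorem code_gen {j : ℕ} (hj : j < 8) : CodesR C (fl (126 + j)) (get L j) := by
  have h1 : fl (126 + j) = LG.getD j 1 := H789.MS.Cut.runG_getD (prog ++ extra) LG j
  rw [h1]
  exact codesR_get A12Group.codesR hj

theorem code_of {os : List (ℕ × ℕ)} {l : List ℕ}
    (h : ∀ q ∈ os, CodesR C ((runG (prog ++ extra) LG).getD (l.getD q.1 0) 1) q.2) (i : ℕ) {j M : ℕ}
    (hm : (i, M) ∈ os) (hf : l.getD i 0 = j) : CodesR C (fl j) M := by
  subst hf
  exact h (i, M) hm

theorem code0 : CodesR C (fl 126) X := code_gen (j := 0) (by decide)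
theorem code1 : CodesR C (fl 127) XI := code_gen (j := 1) (by decide)
theorem code2 : CodesR C (fl 128) Y := code_gen (j := 2) (by decide)
theorem code3 : CodesR C (fl 129) YI := code_gen (j := 3) (by decide)
theorem code4 : CodesR C (fl 130) Z := code_gen (j := 4) (by decide)
theorem code5 : CodesR C (fl 131) Z := code_gen (j := 5) (by decide)
theorem code6 : CodesR C (fl 132) T := code_gen (j := 6) (by decide)
theorem code7 : CodesR C (fl 133) TI := code_gen (j := 7) (by decide)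

theorem pieceA : ∀ q ∈ H789.MS.HN25A.os, CodesR C ((runG (prog ++ extra) LG).getD
    ((H789.MS.HN25A.ps.reverse ++ H789.MS.HN25A.cur).getD q.1 0) 1) q.2 := by
  have h : List.Forall₂ (CodesR C) (H789.MS.HN25A.cur.map fl) H789.MS.HN25A.Li := (.cons code0 (.cons code1 (.cons code2 (.cons code3 (.cons code4 (.cons code5 (.cons code6 (.cons code7 .nil))))))))
  exact H789.MS.Cut.piece_sound (good_of_check Rep.good) h (by decide +kernel) H789.MS.HN25A.chk (by decide)

theorem code9 : CodesR C (fl 124) H789.MS.HN25Data.M9 :=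
  code_of pieceA 6 (List.Mem.head _) (by decide)
theorem code14 : CodesR C (fl 119) H789.MS.HN25Data.M14 :=
  code_of pieceA 1 (List.Mem.tail _ (List.Mem.head _)) (by decide)
theorem code15 : CodesR C (fl 118) H789.MS.HN25Data.M15 :=
  code_of pieceA 0 (List.Mem.tail _ (List.Mem.tail _ (List.Mem.head _))) (by decide)

theorem pieceB : ∀ q ∈ H789.MS.HN25B.os, CodesR C ((runG (prog ++ extra) LG).getD
    ((H789.MS.HN25B.ps.reverse ++ H789.MS.HN25B.cur).getD q.1 0) 1) q.2 := by
  have h : List.Forall₂ (CodesR C) (H789.MS.HN25B.cur.map fl) H789.MS.HN25B.Li := (.cons code0 (.cons code1 (.cons code2 (.cons code3 (.cons code4 (.cons code5 (.cons code6 (.cons code7 (.cons code9 (.cons code14 (.cons code15 .nil)))))))))))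
  exact H789.MS.Cut.piece_sound (good_of_check Rep.good) h (by decide +kernel) H789.MS.HN25B.chk (by decide)

theorem code16 : CodesR C (fl 117) H789.MS.HN25Data.M16 :=
  code_of pieceB 15 (List.Mem.head _) (by decide)
theorem code28 : CodesR C (fl 105) H789.MS.HN25Data.M28 :=
  code_of pieceB 3 (List.Mem.tail _ (List.Mem.head _)) (by decide)
theorem code32 : CodesR C (fl 101) H789.MS.HN25Data.M32 :=
  code_of pieceB 0 (List.Mem.tail _ (List.Mem.tail _ (List.Mem.head _))) (by decide)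

theorem pieceC : ∀ q ∈ H789.MS.HN25C.os, CodesR C ((runG (prog ++ extra) LG).getD
    ((H789.MS.HN25C.ps.reverse ++ H789.MS.HN25C.cur).getD q.1 0) 1) q.2 := by
  have h : List.Forall₂ (CodesR C) (H789.MS.HN25C.cur.map fl) H789.MS.HN25C.Li := (.cons code0 (.cons code1 (.cons code2 (.cons code3 (.cons code4 (.cons code5 (.cons code6 (.cons code7 (.cons code9 (.cons code15 (.cons code16 .nil)))))))))))
  exact H789.MS.Cut.piece_sound (good_of_check Rep.good) h (by decide +kernel) H789.MS.HN25C.chk (by decide)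

theorem code46 : CodesR C (fl 87) H789.MS.HN25Data.M46 :=
  code_of pieceC 3 (List.Mem.head _) (by decide)
theorem code47 : CodesR C (fl 86) H789.MS.HN25Data.M47 :=
  code_of pieceC 2 (List.Mem.tail _ (List.Mem.head _)) (by decide)
theorem code48 : CodesR C (fl 85) H789.MS.HN25Data.M48 :=
  code_of pieceC 1 (List.Mem.tail _ (List.Mem.tail _ (List.Mem.head _))) (by decide)
theorem code50 : CodesR C (fl 83) H789.MS.HN25Data.M50 :=
  code_of pieceC 0 (List.Mem.tail _ (List.Mem.tail _ (List.Mem.tail _ (List.Mem.head _)))) (by decide)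

theorem eq_of {es : List (ℕ × ℕ)} {l : List ℕ}
    (h : ∀ q ∈ es, (runG (prog ++ extra) LG).getD (l.getD q.1 0) 1 = (runG (prog ++ extra) LG).getD (l.getD q.2 0) 1)
    {q : ℕ × ℕ} (hm : q ∈ es) {i j : ℕ} (hi : l.getD q.1 0 = i) (hj : l.getD q.2 0 = j) :
    (runG (prog ++ extra) LG).getD i 1 = (runG (prog ++ extra) LG).getD j 1 := by
  subst hi hj
  exact h q hm

theorem pieceD : ∀ q ∈ H789.MS.HN25D.es, (runG (prog ++ extra) LG).getD
    ((H789.MS.HN25D.ps.reverse ++ H789.MS.HN25D.cur).getD q.1 0) 1 = (runG (prog ++ extra) LG).getD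
    ((H789.MS.HN25D.ps.reverse ++ H789.MS.HN25D.cur).getD q.2 0) 1 := by
  have h : List.Forall₂ (CodesR C) (H789.MS.HN25D.cur.map fl) H789.MS.HN25D.Li := (.cons code9 (.cons code15 (.cons code28 (.cons code32 (.cons code46 (.cons code47 (.cons code48 (.cons code50 .nil))))))))
  exact (H789.MS.Cut.piece_eq (good_of_check Rep.good) h (by decide +kernel) H789.MS.HN25D.chk (by decide)).1

theorem sound' : (∀ q ∈ es', (runG (prog ++ extra) LG).getD q.1 1 = (runG (prog ++ extra) LG).getD q.2 1) ∧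
    (∀ q ∈ ([] : List (ℕ × ℕ)), (runG (prog ++ extra) LG).getD q.1 1 ≠ (runG (prog ++ extra) LG).getD q.2 1) := by
  refine ⟨fun q hq => ?_, fun q hq => absurd hq List.not_mem_nil⟩
  have hq2 : q ∈ H789.MS.HN25D.es := hq
  simp only [es', List.mem_cons, List.not_mem_nil, or_false] at hq
  rcases hq with rfl | rfl | rfl | rfl | rfl <;> exact eq_of pieceD hq2 (by decide) (by decide)

/-- the results of the further steps in the presented group -/
noncomputable def T (i : ℕ) : Cfsg.Spor.HN := (runG extra (runG prog gens)).getD i 1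

theorem rho_T (i : ℕ) : rho (T i) = (runG (prog ++ extra) LG).getD i 1 := by
  unfold T
  rw [← runG_append, ← Rep.gens_map, runG_map, List.getD_eq_getElem?_getD, List.getD_eq_getElem?_getD,
    List.getElem?_map]
  cases (runG (prog ++ extra) gens)[i]? with
  | none => simp
  | some b => simp

theorem eqT {i j : ℕ} (h : (i, j) ∈ es') : T i = T j := by
  have := Cfsg.Agent.S1701.result.1
  apply A12Group.rho_injective
  rw [rho_T, rho_T]
  exact sound'.1 (i, j) h

theorem stepT {i : ℕ} {w : List ℕ} (hi : i < extra.length)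
    (hw : ((extra.reverse.getD i (0, [])).1 :: (extra.reverse.getD i (0, [])).2) = w) :
    T i = evF (fun m => T (i + 1 + m)) w := by
  rw [← hw]
  exact runG_step extra (runG prog gens) i hi

theorem TR (m : ℕ) : T (17 + m) = R m := runG_getD extra (runG prog gens) m

theorem tW : T 118 = W := TR 101
theorem tA : T 85 = A := TR 68
theorem tC : T 101 = C₁ := TR 84
theorem tD : T 124 = D := TR 107
theorem tG : T 87 = G := TR 70
theorem tGi : T 86 = Gi := TR 69
theorem tF : T 83 = F := TR 66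
theorem tk : T 105 = k := TR 88

theorem t16 : T 16 = T 87 * (T 105 * (T 105 * (T 86 * 1))) := stepT (i := 16) (w := [70, 88, 88, 69]) (by decide) (by rfl)
theorem t15 : T 15 = T 85 * (T 85 * 1) := stepT (i := 15) (w := [69, 69]) (by decide) (by rfl)
theorem t14 : T 14 = T 15 * (T 15 * 1) := stepT (i := 14) (w := [0, 0]) (by decide) (by rfl)
theorem t13 : T 13 = T 14 * (T 124 * (T 124 * (T 124 * 1))) := stepT (i := 13) (w := [0, 110, 110, 110]) (by decide) (by rfl)
theorem t12 : T 12 = T 13 * (T 16 * 1) := stepT (i := 12) (w := [0, 3]) (by decide) (by rfl)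
theorem t11 : T 11 = T 13 * (T 12 * 1) := stepT (i := 11) (w := [1, 0]) (by decide) (by rfl)
theorem t10 : T 10 = T 13 * (T 11 * 1) := stepT (i := 10) (w := [2, 0]) (by decide) (by rfl)
theorem t9 : T 9 = T 13 * (T 10 * 1) := stepT (i := 9) (w := [3, 0]) (by decide) (by rfl)
theorem t8 : T 8 = T 101 * (T 83 * 1) := stepT (i := 8) (w := [92, 74]) (by decide) (by rfl)
theorem t7 : T 7 = T 101 * (T 8 * 1) := stepT (i := 7) (w := [93, 0]) (by decide) (by rfl)
theorem t6 : T 6 = T 101 * (T 7 * 1) := stepT (i := 6) (w := [94, 0]) (by decide) (by rfl)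
theorem t5 : T 5 = T 101 * (T 6 * 1) := stepT (i := 5) (w := [95, 0]) (by decide) (by rfl)
theorem t4 : T 4 = T 8 * (T 12 * (T 8 * 1)) := stepT (i := 4) (w := [3, 7, 3]) (by decide) (by rfl)
theorem t3 : T 3 = T 7 * (T 11 * (T 7 * 1)) := stepT (i := 3) (w := [3, 7, 3]) (by decide) (by rfl)
theorem t2 : T 2 = T 6 * (T 10 * (T 6 * 1)) := stepT (i := 2) (w := [3, 7, 3]) (by decide) (by rfl)
theorem t1 : T 1 = T 5 * (T 9 * (T 5 * 1)) := stepT (i := 1) (w := [3, 7, 3]) (by decide) (by rfl)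
theorem t0 : T 0 = T 118 * (T 16 * (T 118 * 1)) := stepT (i := 0) (w := [117, 15, 117]) (by decide) (by rfl)

/-- `n` inverts `W` -/
theorem inv_W : W * (T 16 * W) = T 16 := by
  have h : T 0 = T 16 := eqT (by decide)
  rw [t0, tW, mul_one] at h
  exact h

/-- `A⁴ D³` commutes with `W` -/
theorem comm_a : W * T 13 = T 13 * W := by
  have h1 : Commute W A := ext.wa
  have h2 : Commute W D := ext.wd
  rw [t13, t14, t15, tA, tD]
  simp only [mul_one]
  exact (((h1.mul_right h1).mul_right (h1.mul_right h1)).mul_right (h2.mul_right (h2.mul_right h2))).eq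

/-- if `y n y = n` and `W n W = n`, then `y W^m` is real -/
theorem real_of {y n : Spor.HN} (hy : y * (n * y) = n) (hW : W * (n * W) = n) (hc : Commute W y) (m : ℤ) :
    IsConj (y * W ^ m) (y * W ^ m)⁻¹ := by
  have h1 : n * y * n⁻¹ = y⁻¹ := by
    calc n * y * n⁻¹ = y⁻¹ * (y * (n * y)) * n⁻¹ := by group
      _ = y⁻¹ := by rw [hy]; group
  have h2 : n * W * n⁻¹ = W⁻¹ := by
    calc n * W * n⁻¹ = W⁻¹ * (W * (n * W)) * n⁻¹ := by group
      _ = W⁻¹ := by rw [hW]; group
  refine isConj_iff.2 ⟨n, ?_⟩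
  have h3 : n * (y * W ^ m) * n⁻¹ = (n * y * n⁻¹) * (n * W ^ m * n⁻¹) := by group
  rw [h3, ← conj_zpow, h1, h2, inv_zpow, ← mul_inv_rev, (hc.zpow_left m).eq]

theorem step_W {n : Spor.HN} (hW : W * (n * W) = n) : W * (T 13 * n * W) = T 13 * n := by
  calc W * (T 13 * n * W) = (W * T 13) * n * W := by group
    _ = T 13 * (W * (n * W)) := by rw [comm_a]; group
    _ = T 13 * n := by rw [hW]

theorem w12 : W * (T 12 * W) = T 12 := by rw [t12, mul_one]; exact step_W inv_W
theorem w11 : W * (T 11 * W) = T 11 := by rw [t11, mul_one]; exact step_W w12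
theorem w10 : W * (T 10 * W) = T 10 := by rw [t10, mul_one]; exact step_W w11
theorem w9 : W * (T 9 * W) = T 9 := by rw [t9, mul_one]; exact step_W w10

theorem y8 : T 8 = C₁ ^ 1 * F := by rw [t8, tC, tF, mul_one, pow_one]
theorem y7 : T 7 = C₁ ^ 2 * F := by rw [t7, y8, tC, mul_one, ← mul_assoc, ← pow_succ']
theorem y6 : T 6 = C₁ ^ 3 * F := by rw [t6, y7, tC, mul_one, ← mul_assoc, ← pow_succ']
theorem y5 : T 5 = C₁ ^ 4 * F := by rw [t5, y6, tC, mul_one, ← mul_assoc, ← pow_succ']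

theorem comm_y (u : ℕ) : Commute W (C₁ ^ u * F) :=
  ((show Commute W C₁ from ext.wc).pow_right u).mul_right (show Commute W F from FW.symm)

/-- the representatives -/
theorem real_c {u : ℕ} (h1 : 1 ≤ u) (h4 : u ≤ 4) (m : ℤ) :
    IsConj (nf W A B C₁ D 0 0 u 0 m * F) (nf W A B C₁ D 0 0 u 0 m * F)⁻¹ := by
  have cF : Commute (W ^ m) F := (show Commute W F from FW.symm).zpow_left m
  have h2 : nf W A B C₁ D 0 0 u 0 m * F = C₁ ^ u * F * W ^ m := by
    simp only [nf, zpow_zero, one_mul, mul_one, zpow_natCast]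
    rw [mul_assoc, cF.eq, ← mul_assoc]
  rw [h2]
  have e1 : T 8 * (T 12 * T 8) = T 12 := by
    have h : T 4 = T 12 := eqT (by decide)
    rwa [t4, mul_one] at h
  have e2 : T 7 * (T 11 * T 7) = T 11 := by
    have h : T 3 = T 11 := eqT (by decide)
    rwa [t3, mul_one] at h
  have e3 : T 6 * (T 10 * T 6) = T 10 := by
    have h : T 2 = T 10 := eqT (by decide)
    rwa [t2, mul_one] at h
  have e4 : T 5 * (T 9 * T 5) = T 9 := by
    have h : T 1 = T 9 := eqT (by decide)
    rwa [t1, mul_one] at h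
  rw [y8] at e1
  rw [y7] at e2
  rw [y6] at e3
  rw [y5] at e4
  have hu : u = 1 ∨ u = 2 ∨ u = 3 ∨ u = 4 := by omega
  rcases hu with rfl | rfl | rfl | rfl
  · exact real_of e1 w12 (comm_y 1) m
  · exact real_of e2 w11 (comm_y 2) m
  · exact real_of e3 w10 (comm_y 3) m
  · exact real_of e4 w9 (comm_y 4) m

/-- real -/
def Rl (x : Spor.HN) : Prop := IsConj x x⁻¹

theorem move3 (g v : ℕ) (h : ∀ m, Rl (nv (mv2 g v) m * F)) : ∀ m, Rl (nv v m * F) := by
  intro m
  have key : ∀ (s : Spor.HN) (a0 a1 a2 a3 a4 s0 s1 s2 s3 : ℤ) (c0 c1 c2 c3 : ℕ),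
      s⁻¹ = nf W A B C₁ D s0 s1 s2 s3 0 → F * s = nf W A B C₁ D a0 a1 a2 a3 a4 * F →
      (5 : ℤ) ∣ s0 + a0 - c0 → (5 : ℤ) ∣ s1 + a1 - c1 → (5 : ℤ) ∣ s2 + a2 - c2 → (5 : ℤ) ∣ s3 + a3 - c3 →
      (∀ m, Rl (nv (en (d0 v + c0) (d1 v + c1) (d2 v + c2) (d3 v + c3)) m * F)) → Rl (nv v m * F) := by
    intro s a0 a1 a2 a3 a4 s0 s1 s2 s3 c0 c1 c2 c3 hs hF h0 h1 h2 h3 hv
    apply real_of_conj s⁻¹
    obtain ⟨m', hm⟩ := step_F hs hF (d0 v) (d1 v) (d2 v) (d3 v) m
    rw [nv, hm]
    have h4 := hv m'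
    rw [← nf_en] at h4
    rw [nf_mod (i' := ((d0 v + c0 : ℕ) : ℤ)) (j' := ((d1 v + c1 : ℕ) : ℤ)) (u' := ((d2 v + c2 : ℕ) : ℤ))
      (l' := ((d3 v + c3 : ℕ) : ℤ)) (by push_cast; omega) (by push_cast; omega) (by push_cast; omega)
      (by push_cast; omega)]
    exact h4
  rcases g with _ | _ | _ | g
  · exact key A _ _ _ _ _ (-1) 0 0 0 4 0 4 4 (by simp [nf]) e_fa1 (by norm_num) (by norm_num) (by norm_num) (by norm_num)
      h
  · exact key B _ _ _ _ _ 0 (-1) 0 0 0 0 0 4 (by simp [nf]) e_fb1 (by norm_num) (by norm_num) (by norm_num) (by norm_num)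
      h
  · exact key C₁ _ _ _ _ _ 0 0 (-1) 0 4 1 3 4 (by simp [nf]) e_fa2 (by norm_num) (by norm_num) (by norm_num)
      (by norm_num) h
  · exact key D _ _ _ _ _ 0 0 0 (-1) 4 0 4 3 (by simp [nf]) e_fb2 (by norm_num) (by norm_num) (by norm_num) (by norm_num)
      h

/-- the elements of the coset of `F` are real -/
theorem real_F : ∀ v < 625, ∀ m, Rl (nv v m * F) := by
  intro v hv
  refine all_of_rank (P := fun v => ∀ m, Rl (nv v m * F)) chk2 move3 ?_ _ v (Nat.lt_succ_self _) hv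
    (fun h => absurd h (by decide))
  intro v hv m
  simp only [List.mem_cons, List.not_mem_nil, or_false] at hv
  have hc : ∀ u : ℕ, u < 5 → nv (25 * u) m = nf W A B C₁ D 0 0 u 0 m := by
    intro u hu
    rw [nv, d0e, d1e, d2e, d3e]
    apply nf_eq <;> omega
  rcases hv with rfl | rfl | rfl | rfl | rfl
  · have h0 : nv 0 m = W ^ m := by simp [nv, nf, d0e, d1e, d2e, d3e]
    rw [h0]
    exact real_WF m
  · rw [show (25 : ℕ) = 25 * 1 from rfl, hc 1 (by decide)]
    exact real_c (by decide) (by decide) m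
  · rw [show (50 : ℕ) = 25 * 2 from rfl, hc 2 (by decide)]
    exact real_c (by decide) (by decide) m
  · rw [show (75 : ℕ) = 25 * 3 from rfl, hc 3 (by decide)]
    exact real_c (by decide) (by decide) m
  · rw [show (100 : ℕ) = 25 * 4 from rfl, hc 4 (by decide)]
    exact real_c (by decide) (by decide) m

/-- **the 5-elements of HN are real** -/
theorem real_of_five_group {g : Spor.HN} {n : ℕ} (hg : g ^ 5 ^ n = 1) : IsConj g g⁻¹ := by
  have : Finite Spor.HN := Nat.finite_of_card_ne_zero (by rw [card_HN]; norm_num)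
  have h1 : IsPGroup 5 (zpowers g) := by
    rintro ⟨_, m, rfl⟩
    refine ⟨n, Subtype.ext ?_⟩
    change (g ^ m) ^ 5 ^ n = 1
    rw [← zpow_natCast, ← zpow_mul, mul_comm, zpow_mul, zpow_natCast, hg, one_zpow]
  obtain ⟨Q, hQ⟩ := h1.exists_le_sylow
  obtain ⟨x, hx⟩ := MulAction.exists_smul_eq Spor.HN Q (isPGroup_P.toSylow index_P)
  have h2 : (Q : Subgroup Spor.HN).map (MulAut.conj x).toMonoidHom = P := by
    have := congrArg (fun S : Sylow 5 Spor.HN => (S : Subgroup Spor.HN)) hx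
    exact this
  have h3 : x * g * x⁻¹ ∈ P := by
    rw [← h2]
    exact ⟨g, hQ (mem_zpowers g), rfl⟩
  apply real_of_conj x
  obtain ⟨q, hq, s, hs⟩ := h3
  rw [hs]
  by_cases h5 : (5 : ℤ) ∣ s
  · have h6 : F ^ s = 1 := by rw [zpow_eq F5 (i := s) (j := 0) (by simpa using h5), zpow_zero]
    rw [h6, mul_one]
    exact real_Q hq
  · obtain ⟨t, ht⟩ : ∃ t : ℕ, (5 : ℤ) ∣ s * t - 1 := by
      have h4 : s % 5 = 1 ∨ s % 5 = 2 ∨ s % 5 = 3 ∨ s % 5 = 4 := by omega
      rcases h4 with h | h | h | h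
      · exact ⟨1, by push_cast; omega⟩
      · exact ⟨3, by push_cast; omega⟩
      · exact ⟨2, by push_cast; omega⟩
      · exact ⟨4, by push_cast; omega⟩
    have ht5 : ¬ 5 ∣ t := by
      rintro ⟨r, rfl⟩
      push_cast at ht
      have h6 : (5 : ℤ) ∣ s * (5 * r) := ⟨s * r, by ring⟩
      have h7 := dvd_sub h6 ht
      simp at h7
    have hreal : IsConj ((q * F ^ s) ^ t) ((q * F ^ s) ^ t)⁻¹ := by
      obtain ⟨q', hq', he⟩ := pow_form hq s t
      rw [he, zpow_eq F5 (i := s * t) (j := 1) ht, zpow_one]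
      obtain ⟨i, j, u, l, m, rfl⟩ := hq'
      obtain ⟨v, hv, he⟩ := exists_code i j u l m
      rw [he]
      exact real_F v hv m
    -- back to `q F ^ s`
    have ho : (q * F ^ s) ^ 5 ^ n = 1 := by
      rw [← hs, conj_pow, hg, mul_one, mul_inv_cancel]
    have hcop : Nat.Coprime t (5 ^ n) :=
      Nat.Coprime.pow_right n (((Nat.Prime.coprime_iff_not_dvd Nat.prime_five).2 ht5).symm)
    obtain ⟨c, hc⟩ := isConj_iff.1 hreal
    generalize q * F ^ s = y at *
    have hcopo : Nat.Coprime t (orderOf y) := Nat.Coprime.coprime_dvd_right (orderOf_dvd_of_pow_eq_one ho) hcop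
    obtain ⟨e, he⟩ := exists_pow_eq_self_of_coprime hcopo
    refine isConj_iff.2 ⟨c, ?_⟩
    have h8 : c * (y ^ t) ^ e * c⁻¹ = ((y ^ t)⁻¹) ^ e := by rw [← hc, conj_pow]
    rw [he, inv_pow, he] at h8
    exact h8

/-- elements of order 25 -/
theorem real_25 {g : Spor.HN} (h : orderOf g = 25) : ∃ b : Spor.HN, b * g * b⁻¹ = g⁻¹ :=
  isConj_iff.1 (real_of_five_group (n := 2) (by rw [show 5 ^ 2 = 25 by norm_num, ← h]; exact pow_orderOf_eq_one g))

end Cfsg.Agent.H253.Ore.HN25
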